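import Groth.Agent.Lib.HMG.Points
import Groth.Agent.Lib.Comod.Coeff
import Groth.Agent.Lib.Hopf.Comod
import Mathlib.RingTheory.FiniteType

/-!
# Comatrices and embeddings into `GL_n`
-/

universe u

open TensorProduct CoordGrp

namespace GrothLib.HMG

variable {k : Type u} [Field k] {A : Type u} [CommRing A] [HopfAlgebra k A]

/-- a comatrix -/
def IsComat {ι : Type*} [Fintype ι] [DecidableEq ι] (M : Matrix ι ι A) : Prop :=
  (∀ i j, Coalgebra.comul (R := k) (M i j) = ∑ l, M i l ⊗ₜ[k] M l j) ∧
    ∀ i j, Coalgebra.counit (R := k) (M i j) = if i = j then (1 : k) else 0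

theorem isUnit_det_of_comat {ι : Type*} [Fintype ι] [DecidableEq ι] {M : Matrix ι ι A} (h : IsComat (k := k) M) :
    IsUnit M.det := by
  refine Matrix.isUnit_det_of_right_inverse (B := M.map (HopfAlgebraStruct.antipode (R := k))) ?_
  ext i j
  have h1 := HopfAlgebra.mul_antipode_lTensor_comul_apply (R := k) (M i j)
  simp only [h.1 i j, h.2 i j, map_sum, LinearMap.lTensor_tmul, LinearMap.mul'_apply] at h1
  rw [Matrix.mul_apply, Matrix.one_apply]
  refine Eq.trans ?_ (h1.trans ?_)
  · rfl
  · split_ifs <;> simp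

/-- the homomorphism to `GL_n` of a comatrix -/
noncomputable def glHom {n : ℕ} (M : Matrix (Fin n) (Fin n) A) (h : IsComat (k := k) M) : GLn n k →ₐc[k] A :=
  BialgHom.ofAlgHom (ofMat M (isUnit_det_of_comat h))
    (ext_mat (Matrix.ext fun i j => by
      change Coalgebra.counit (R := k) (mat (ofMat (k := k) M (isUnit_det_of_comat h)) i j) =
        Coalgebra.counit (R := k) (GLn.X i j : GLn n k)
      rw [mat_ofMat, h.2, GLn.counit_X]))
    (ext_mat (Matrix.ext fun i j => by
      change Algebra.TensorProduct.map _ _ (Coalgebra.comul (R := k) (GLn.X i j : GLn n k)) =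
        Coalgebra.comul (R := k) (mat (ofMat (k := k) M (isUnit_det_of_comat h)) i j)
      rw [mat_ofMat, h.1, GLn.comul_X, map_sum]
      refine Finset.sum_congr rfl fun l _ => ?_
      rw [Algebra.TensorProduct.map_tmul]
      exact congrArg₂ (· ⊗ₜ[k] ·) (congrFun (congrFun (mat_ofMat M _) i) l) (congrFun (congrFun (mat_ofMat M _) l) j)))

theorem glHom_X {n : ℕ} (M : Matrix (Fin n) (Fin n) A) (h : IsComat (k := k) M) (i j : Fin n) :
    glHom M h (GLn.X i j) = M i j := congrFun (congrFun (mat_ofMat M (isUnit_det_of_comat h)) i) j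

theorem glHom_surjective {n : ℕ} (M : Matrix (Fin n) (Fin n) A) (h : IsComat (k := k) M)
    (hgen : Algebra.adjoin k (Set.range fun p : Fin n × Fin n => M p.1 p.2) = ⊤) : Function.Surjective (glHom M h) := by
  intro a
  have hle : Algebra.adjoin k (Set.range fun p : Fin n × Fin n => M p.1 p.2) ≤
      (glHom M h : GLn n k →ₐ[k] A).range := Algebra.adjoin_le (by
    rintro _ ⟨p, rfl⟩
    exact ⟨GLn.X p.1 p.2, glHom_X M h _ _⟩)
  rw [hgen] at hle
  exact hle (Algebra.mem_top (x := a))

theorem isComat_reindex {ι κ : Type*} [Fintype ι] [DecidableEq ι] [Fintype κ] [DecidableEq κ] (e : ι ≃ κ)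
    {M : Matrix ι ι A} (h : IsComat (k := k) M) : IsComat (k := k) (M.reindex e e) := by
  refine ⟨fun i j => ?_, fun i j => ?_⟩
  · rw [Matrix.reindex_apply, Matrix.submatrix_apply, h.1, ← Equiv.sum_comp e.symm]
    rfl
  · rw [Matrix.reindex_apply, Matrix.submatrix_apply, h.2]
    simp

theorem isComat_fromBlocks {ι κ : Type*} [Fintype ι] [DecidableEq ι] [Fintype κ] [DecidableEq κ]
    {M : Matrix ι ι A} (hM : IsComat (k := k) M) {M' : Matrix κ κ A} (hM' : IsComat (k := k) M') :
    IsComat (k := k) (Matrix.fromBlocks M 0 0 M') := by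
  refine ⟨fun i j => ?_, fun i j => ?_⟩
  · rw [Fintype.sum_sum_type]
    rcases i with i | i <;> rcases j with j | j <;> simp [hM.1, hM'.1]
  · rcases i with i | i <;> rcases j with j | j <;> simp [hM.2, hM'.2]

variable (k A) in
/-- a comatrix generating the Hopf algebra -/
theorem exists_comat [Algebra.FiniteType k A] :
    ∃ (n : ℕ) (M : Matrix (Fin n) (Fin n) A), IsComat (k := k) M ∧
      Algebra.adjoin k (Set.range fun p : Fin n × Fin n => M p.1 p.2) = ⊤ := by
  obtain ⟨s, hs⟩ := (inferInstance : Algebra.FiniteType k A).out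
  let U := GrothLib.Hopf.Comod.gen (C := A) (Submodule.span k (s : Set A))
  haveI : Module.Finite k U :=
    Module.Finite.iff_fg.2 (GrothLib.Hopf.Comod.gen_fg (Submodule.fg_span s.finite_toSet))
  let e := Module.finBasis k U
  obtain ⟨U', hU'⟩ := Submodule.exists_isCompl U
  let φ : Fin (Module.finrank k U) → Module.Dual k A := fun i => e.coord i ∘ₗ U.projectionOnto U' hU'
  have hφ : ∀ i l, φ i (e l : A) = if l = i then 1 else 0 := fun i l => by
    simp [φ, Finsupp.single_apply]
  let M : Matrix (Fin (Module.finrank k U)) (Fin (Module.finrank k U)) A := fun i j =>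
    GrothLib.Comodule.cfMap (C := A) (φ i) (e j : A)
  have hexp : ∀ j, Coalgebra.comul (R := k) (e j : A) = ∑ l, (e l : A) ⊗ₜ[k] M l j := by
    intro j
    obtain ⟨x, hx⟩ := GrothLib.Hopf.Comod.gen_isSubcomod (C := A) (Submodule.span k (s : Set A)) (e j : A) (e j).2
    obtain ⟨b, hb⟩ : ∃ b : Fin (Module.finrank k U) → A, x = ∑ l, e l ⊗ₜ[k] b l := by
      clear hx
      induction x using TensorProduct.induction_on with
      | zero => exact ⟨0, by simp⟩
      | tmul p q =>
        refine ⟨fun l => e.repr p l • q, ?_⟩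
        conv_lhs => rw [← e.sum_repr p, TensorProduct.sum_tmul]
        exact Finset.sum_congr rfl fun l _ => TensorProduct.smul_tmul ..
      | add a b ha hb =>
        obtain ⟨b₁, rfl⟩ := ha
        obtain ⟨b₂, rfl⟩ := hb
        exact ⟨b₁ + b₂, by simp [TensorProduct.tmul_add, Finset.sum_add_distrib]⟩
    have hx' : Coalgebra.comul (R := k) (e j : A) = ∑ l, (e l : A) ⊗ₜ[k] b l :=
      hx.symm.trans (by rw [hb, map_sum]; rfl)
    have hbM : ∀ i, M i j = b i := fun i => by
      change TensorProduct.lid k A ((φ i).rTensor A (Coalgebra.comul (R := k) (e j : A))) = b i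
      rw [hx', map_sum, map_sum, Finset.sum_eq_single i (fun l _ hl => by simp [hφ, hl])
        (fun h => absurd (Finset.mem_univ _) h)]
      simp [hφ]
    simp only [hbM]
    exact hx'
  refine ⟨_, M, ⟨fun i j => ?_, fun i j => ?_⟩, ?_⟩
  · have h := LinearMap.congr_fun (GrothLib.Comodule.isComodHom_cfMap (C := A) (φ i)) (e j : A)
    change Coalgebra.comul (R := k) (M i j) =
      (GrothLib.Comodule.cfMap (C := A) (φ i)).rTensor A (Coalgebra.comul (R := k) (e j : A)) at h
    rw [h, hexp, map_sum]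
    rfl
  · refine (GrothLib.Comodule.counit_cfMap (C := A) (φ i) (e j : A)).trans ?_
    rw [hφ]
    simp [eq_comm]
  · refine top_unique (hs.ge.trans (Algebra.adjoin_le fun a ha => ?_))
    have hU : a ∈ U := GrothLib.Hopf.Comod.le_gen _ (Submodule.subset_span ha)
    have h2 : ∀ j, (e j : A) = ∑ l, Coalgebra.counit (R := k) (e l : A) • M l j := fun j => by
      have h3 := congrArg (fun w => TensorProduct.lid k A ((Coalgebra.counit (R := k) (A := A)).rTensor A w)) (hexp j)
      simp only [Coalgebra.rTensor_counit_comul, TensorProduct.lid_tmul, one_smul, map_sum, LinearMap.rTensor_tmul] at h3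
      exact h3
    have ha' : a = ∑ j, e.repr ⟨a, hU⟩ j • (e j : A) := by
      have h4 := congrArg U.subtype (e.sum_repr ⟨a, hU⟩)
      rw [map_sum] at h4
      exact h4.symm
    rw [SetLike.mem_coe, ha']
    refine Subalgebra.sum_mem _ fun j _ => Subalgebra.smul_mem _ ?_ _
    rw [h2 j]
    exact Subalgebra.sum_mem _ fun l _ => Subalgebra.smul_mem _ (Algebra.subset_adjoin (Set.mem_range.2 ⟨((l, j) : Fin _ × Fin _), rfl⟩)) _

end GrothLib.HMG
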