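import Groth.Agent.Lib.Comod.Basic
import Groth.Prelude.Def_GLin4
import Mathlib.LinearAlgebra.Matrix.NonsingularInverse
import Mathlib.RingTheory.HopfAlgebra.Convolution

/-!
# Points of `GL_N` as matrices
-/

universe u v

open TensorProduct CoordGrp

namespace GrothLib.HMG

variable {k : Type u} [CommRing k] {N : ℕ}

section PMul

variable {R : Type*} [CommRing R] [Bialgebra k R] {B B' : Type*} [CommRing B] [Algebra k B] [CommRing B']
  [Algebra k B']

/-- the product of two points -/
noncomputable def pmul (g h : R →ₐ[k] B) : R →ₐ[k] B :=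
  (Algebra.TensorProduct.lift g h fun _ _ => Commute.all _ _).comp (Bialgebra.comulAlgHom k R)

theorem comp_pmul (f : B →ₐ[k] B') (g h : R →ₐ[k] B) : f.comp (pmul g h) = pmul (f.comp g) (f.comp h) := by
  rw [pmul, pmul, ← AlgHom.comp_assoc]
  congr 1
  exact Algebra.TensorProduct.ext' fun a b => by simp

theorem pmul_comp {A : Type*} [CommRing A] [Bialgebra k A] (π : R →ₐc[k] A) (g h : A →ₐ[k] B) :
    pmul (g.comp (π : R →ₐ[k] A)) (h.comp (π : R →ₐ[k] A)) = (pmul g h).comp (π : R →ₐ[k] A) := by
  refine AlgHom.ext fun x => ?_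
  change Algebra.TensorProduct.lift (g.comp (π : R →ₐ[k] A)) (h.comp (π : R →ₐ[k] A)) (fun _ _ => Commute.all _ _)
      (Coalgebra.comul (R := k) x) =
    Algebra.TensorProduct.lift g h (fun _ _ => Commute.all _ _) (Coalgebra.comul (R := k) (π x))
  rw [show Coalgebra.comul (R := k) (π x) = TensorProduct.map π.toLinearMap π.toLinearMap (Coalgebra.comul (R := k) x)
    from (LinearMap.congr_fun π.map_comp_comul x).symm]
  induction Coalgebra.comul (R := k) x using TensorProduct.induction_on with
  | zero => simp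
  | tmul a b =>
    rw [Algebra.TensorProduct.lift_tmul, TensorProduct.map_tmul, Algebra.TensorProduct.lift_tmul]
    rfl
  | add a b ha hb => simp only [map_add, ha, hb]

variable (k R B) in
/-- the neutral point -/
noncomputable def pone : R →ₐ[k] B := (Algebra.ofId k B).comp (Bialgebra.counitAlgHom k R)

theorem pmul_antipode_left {A : Type*} [CommRing A] [HopfAlgebra k A] (h : A →ₐ[k] B) :
    pmul (h.comp (HopfAlgebra.antipodeAlgHom k A)) h = pone k A B := by
  refine AlgHom.ext fun a => ?_
  have h1 : ∀ w : A ⊗[k] A,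
      Algebra.TensorProduct.lift (h.comp (HopfAlgebra.antipodeAlgHom k A)) h (fun _ _ => Commute.all _ _) w =
        h (LinearMap.mul' k A ((HopfAlgebraStruct.antipode (R := k) (A := A)).rTensor A w)) := fun w => by
    induction w using TensorProduct.induction_on with
    | zero => simp
    | tmul p q => simp
    | add p q hp hq => simp only [map_add, hp, hq]
  change Algebra.TensorProduct.lift (h.comp (HopfAlgebra.antipodeAlgHom k A)) h (fun _ _ => Commute.all _ _)
    (Coalgebra.comul (R := k) a) = algebraMap k B (Coalgebra.counit (R := k) a)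
  rw [h1, HopfAlgebra.mul_antipode_rTensor_comul_apply, AlgHom.commutes]

end PMul

variable {B : Type v} [CommRing B] [Algebra k B] {B' : Type*} [CommRing B'] [Algebra k B']

/-- the matrix of a point -/
noncomputable def mat (g : GLn N k →ₐ[k] B) : Matrix (Fin N) (Fin N) B := fun i j => g (GLn.X i j)

theorem det_mat (g : GLn N k →ₐ[k] B) : (mat g).det = g GLn.det := by
  rw [GLn.det_eq, AlgHom.map_det]
  rfl

theorem det_mat_mul (g : GLn N k →ₐ[k] B) : (mat g).det * g GLn.Dinv = 1 := by
  rw [det_mat, ← map_mul, GLn.det_mul_Dinv, map_one]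

theorem isUnit_det_mat (g : GLn N k →ₐ[k] B) : IsUnit (mat g).det :=
  isUnit_iff_exists_inv.2 ⟨_, det_mat_mul g⟩

theorem ext_mat {g h : GLn N k →ₐ[k] B} (e : mat g = mat h) : g = h := by
  refine GLn.algHom_ext (fun i j => congrFun (congrFun e i) j) ?_
  have h1 := det_mat_mul g
  have h2 := det_mat_mul h
  rw [e] at h1
  exact (isUnit_det_mat h).mul_left_cancel (h1.trans h2.symm)

/-- the point of an invertible matrix -/
noncomputable def ofMat (M : Matrix (Fin N) (Fin N) B) (h : IsUnit M.det) : GLn N k →ₐ[k] B :=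
  GLn.pt N k M h.unit⁻¹.1 (by simp)

theorem mat_ofMat (M : Matrix (Fin N) (Fin N) B) (h : IsUnit M.det) : mat (ofMat (k := k) M h) = M :=
  Matrix.ext fun i j => GLn.pt_X M _ _ i j

theorem mat_comp (f : B →ₐ[k] B') (g : GLn N k →ₐ[k] B) : mat (f.comp g) = (mat g).map f := rfl

theorem mat_pmul (g h : GLn N k →ₐ[k] B) : mat (pmul g h) = mat g * mat h := by
  ext i j
  change Algebra.TensorProduct.lift g h (fun _ _ => Commute.all _ _) (Coalgebra.comul (R := k) (GLn.X i j : GLn N k)) = _
  rw [GLn.comul_X, map_sum, Matrix.mul_apply]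
  exact Finset.sum_congr rfl fun l _ => Algebra.TensorProduct.lift_tmul _ _ _ _ _

theorem mat_pone : mat (pone k (GLn N k) B) = 1 := by
  ext i j
  change algebraMap k B (Coalgebra.counit (R := k) (GLn.X i j : GLn N k)) = _
  rw [GLn.counit_X, Matrix.one_apply]
  split_ifs <;> simp

variable (N k) in
/-- the generic point -/
noncomputable abbrev gen : GLn N k →ₐ[k] GLn N k := AlgHom.id k _

theorem mat_gen : mat (gen k N) = GLn.genMat N k := rfl

/-- the inverse point -/
noncomputable def pinv (g : GLn N k →ₐ[k] B) : GLn N k →ₐ[k] B := g.comp (HopfAlgebra.antipodeAlgHom k _)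

theorem mat_pinv_mul (g : GLn N k →ₐ[k] B) : mat (pinv g) * mat g = 1 := by
  rw [← mat_pmul, pinv, pmul_antipode_left, mat_pone]

theorem mat_mul_pinv (g : GLn N k →ₐ[k] B) : mat g * mat (pinv g) = 1 :=
  mul_eq_one_comm.1 (mat_pinv_mul g)

theorem pmul_assoc (g h l : GLn N k →ₐ[k] B) : pmul (pmul g h) l = pmul g (pmul h l) :=
  ext_mat (by simp only [mat_pmul, mul_assoc])

theorem pone_pmul (g : GLn N k →ₐ[k] B) : pmul (pone k _ B) g = g :=
  ext_mat (by rw [mat_pmul, mat_pone, one_mul])

theorem pmul_pone (g : GLn N k →ₐ[k] B) : pmul g (pone k _ B) = g :=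
  ext_mat (by rw [mat_pmul, mat_pone, mul_one])

theorem pinv_pmul (g : GLn N k →ₐ[k] B) : pmul (pinv g) g = pone k _ B :=
  ext_mat (by rw [mat_pmul, mat_pone, mat_pinv_mul])

theorem pmul_pinv (g : GLn N k →ₐ[k] B) : pmul g (pinv g) = pone k _ B :=
  ext_mat (by rw [mat_pmul, mat_pone, mat_mul_pinv])

end GrothLib.HMG
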