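import Groth.Agent.Lib.HMG.Vec
import Groth.Agent.Lib.HM.Valuative
import Groth.Agent.Lib.HM.Specialise
import Groth.Agent.Lib.AffQuot.Bridge
import Groth.Agent.S19603

/-!
# The numerical criteria
-/

universe u

open TensorProduct CoordGrp
open scoped LaurentPolynomial

namespace GrothLib.HMG

variable {k : Type u} [Field k]

theorem valuation_lt_one_iff_inv {K : Type u} [Field K] (V : ValuationSubring K) (x : K) :
    V.valuation x < 1 ↔ x = 0 ∨ x⁻¹ ∉ V := by
  rcases eq_or_ne x 0 with rfl | hx
  · simp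
  · rw [← V.valuation_le_one_iff, not_le, map_inv₀, or_iff_right hx,
      one_lt_inv₀ (zero_lt_iff.2 (map_ne_zero _ |>.2 hx))]

theorem valuation_comap_lt_one {K' K : Type u} [Field K'] [Field K] (f : K' →+* K) (V : ValuationSubring K)
    (x : K') : (V.comap f).valuation x < 1 ↔ V.valuation (f x) < 1 := by
  rw [valuation_lt_one_iff_inv, valuation_lt_one_iff_inv, ValuationSubring.mem_comap, map_inv₀, map_eq_zero]

variable [IsAlgClosed k] [CharZero k] {A : Type u} [CommRing A] [HopfAlgebra k A] [Algebra.FiniteType k A]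
  {ι : Type u} [Fintype ι] [HopfRep.Comod k A (MvPolynomial ι k)] [GLin.IsCoactAlg k A (MvPolynomial ι k)]

theorem isSemistableVec_of_forall (hG : HopfRep.IsLinearlyReductive k A) (hlin : GLin.IsLinear k A ι) {v : ι → k}
    (hv : v ≠ 0) (h : ∀ (lam : A →ₐc[k] k[T;T⁻¹]) (m : ℤ), GLin.IsMu k A lam v m → 0 ≤ m) :
    GLin.IsSemistableVec k A v := by
  classical
  rw [Groth.Agent.S19603.result k A hG ι hlin v]
  intro hcl
  let x := GLin.vecPt k ι v
  let z := GLin.vecPt k ι (fun _ => (0 : k))
  haveI : (RingHom.ker z).IsPrime := RingHom.ker_isPrime z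
  obtain ⟨K, _, _, V, g, hg, hg0⟩ := GrothLib.HM.exists_valuation_of_ker_le (GLin.orbitHom k A x) (RingHom.ker z) hcl
  have hg1 : ∀ i, V.valuation (g (GLin.orbitHom k A x (MvPolynomial.X i))) < 1 := fun i =>
    hg0 _ (by simp [z])
  obtain ⟨K', _, _, j, g', s, hjg, hgen⟩ := exists_frac g
  let V' := V.comap j.toRingHom
  have hk : ∀ c, algebraMap k K' c ∈ V' := fun c => by
    rw [ValuationSubring.mem_comap]
    have := hg (algebraMap k _ c)
    rw [AlgHom.commutes, AlgHom.commutes] at this
    exact (j.commutes c).symm ▸ this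
  obtain ⟨N, π, u, p, hπ, hset⟩ := exists_setup hlin v
  obtain ⟨hin, hoff⟩ := hset K' g'
  let S₀ : Finset K' := Finset.univ.image fun i => g' (GLin.orbitHom k A x (MvPolynomial.X i))
  have hS₀ : ∀ y ∈ S₀, V'.valuation y < 1 := fun y hy => by
    obtain ⟨i, -, rfl⟩ := Finset.mem_image.1 hy
    rw [valuation_comap_lt_one, show j.toRingHom (g' _) = g (GLin.orbitHom k A x (MvPolynomial.X i)) from
      AlgHom.congr_fun hjg _]
    exact hg1 i
  obtain ⟨i₀, hi₀⟩ : ∃ i, g' (GLin.orbitHom k A x (MvPolynomial.X i)) ≠ 0 := by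
    by_contra hne
    push Not at hne
    have hz : Matrix.vecMul (fun j => algebraMap k K' (u j)) (mat (g'.comp (π : GLn N k →ₐ[k] A))) = 0 := funext fun j => by
      by_cases hj : ∃ i, p i = j
      · obtain ⟨i, rfl⟩ := hj
        rw [hin]; exact hne i
      · push Not at hj
        exact hoff j hj
    have hu := Matrix.eq_zero_of_vecMul_eq_zero (isUnit_det_mat (g'.comp (π : GLn N k →ₐ[k] A))).ne_zero hz
    apply hv
    funext i
    have h1 := (hset k (Bialgebra.counitAlgHom k A)).1 i
    have h2 : ∀ j, u j = 0 := fun j => (algebraMap k K').injective ((congrFun hu j).trans (map_zero _).symm)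
    rw [show (Bialgebra.counitAlgHom k A) (GLin.orbitHom k A (GLin.vecPt k ι v) (MvPolynomial.X i)) = v i from
      (GrothLib.AffQuot.counit_orbitHom _ _).trans (by simp)] at h1
    rw [← h1]
    simp [Matrix.vecMul, dotProduct, h2]
  obtain ⟨V'', hdvr, hk'', -, hlt⟩ := exists_dvr V' hk s ∅ S₀ hgen (by simp) hS₀ _
    (Finset.mem_image_of_mem _ (Finset.mem_univ i₀)) hi₀
  have hlt' : ∀ j, V''.valuation (Matrix.vecMul (fun i => algebraMap k K' (u i))
      (mat (g'.comp (π : GLn N k →ₐ[k] A))) j) < 1 := fun j => by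
    by_cases hj : ∃ i, p i = j
    · obtain ⟨i, rfl⟩ := hj
      rw [hin]; exact hlt _ (Finset.mem_image_of_mem _ (Finset.mem_univ i))
    · push Not at hj
      rw [hoff j hj, map_zero]; exact zero_lt_one
  obtain ⟨r, a, ha, hva, -⟩ := exists_descend V'' hk'' g' u true
    (fun j => (V''.valuation_le_one_iff _).1 (hlt' j).le) (fun _ => hlt')
  obtain ⟨lam, m, hmu, ⟨j₁, hj₁, hj₁'⟩, -⟩ := exists_mu hπ hG hset hv r a ha (fun j => r j ≤ 0)
    (fun i j hij hj => (hij.trans_le hj).le) (fun j hj => hva j (Or.inr ⟨rfl, hj⟩))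
  have := h lam m hmu
  omega

theorem isStableVec_of_forall (hG : HopfRep.IsLinearlyReductive k A) (hlin : GLin.IsLinear k A ι) {v : ι → k}
    (hv : v ≠ 0) (h : ∀ lam : A →ₐc[k] k[T;T⁻¹], ¬ SGA3t2b.IsTrivialBialgHom lam →
        ∀ m : ℤ, GLin.IsMu k A lam v m → 0 < m) :
    GLin.IsStableVec k A v := by
  classical
  refine GrothLib.HM.isStablePt_of_finite _ (GrothLib.HM.finite_of_valuations _ fun K _ _ V g hg a => ?_)
  by_contra hga
  let x := GLin.vecPt k ι v
  obtain ⟨K', _, _, j, g', s, hjg, hgen⟩ := exists_frac g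
  let V' := V.comap j.toRingHom
  have hjg' : ∀ b, j.toRingHom (g' b) = g b := fun b => AlgHom.congr_fun hjg b
  have hk : ∀ c, algebraMap k K' c ∈ V' := fun c => by
    rw [ValuationSubring.mem_comap]
    have := hg (algebraMap k _ c)
    rw [AlgHom.commutes, AlgHom.commutes] at this
    exact (j.commutes c).symm ▸ this
  obtain ⟨N, π, u, p, hπ, hset⟩ := exists_setup hlin v
  obtain ⟨hin, hoff⟩ := hset K' g'
  let S : Finset K' := Finset.univ.image fun i => g' (GLin.orbitHom k A x (MvPolynomial.X i))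
  have hS : ∀ y ∈ S, y ∈ V' := fun y hy => by
    obtain ⟨i, -, rfl⟩ := Finset.mem_image.1 hy
    rw [ValuationSubring.mem_comap, hjg']
    exact hg _
  have hga' : g' a ∉ V' := by rwa [ValuationSubring.mem_comap, hjg']
  have hga0 : g' a ≠ 0 := fun h0 => hga' (h0 ▸ zero_mem V')
  obtain ⟨V'', hdvr, hk'', hS'', hlt⟩ := exists_dvr V' hk s S {(g' a)⁻¹} hgen hS
    (fun y hy => by rw [Finset.mem_singleton.1 hy, valuation_lt_one_iff_inv, inv_inv]; exact Or.inr hga')
    _ (Finset.mem_singleton_self _) (inv_ne_zero hga0)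
  have hga'' : g' a ∉ V'' := by
    have := (valuation_lt_one_iff_inv V'' _).1 (hlt _ (Finset.mem_singleton_self _))
    rwa [or_iff_right (inv_ne_zero hga0), inv_inv] at this
  have hmem : ∀ j, Matrix.vecMul (fun i => algebraMap k K' (u i))
      (mat (g'.comp (π : GLn N k →ₐ[k] A))) j ∈ V'' := fun j => by
    by_cases hj : ∃ i, p i = j
    · obtain ⟨i, rfl⟩ := hj
      rw [hin]; exact hS'' _ (Finset.mem_image_of_mem _ (Finset.mem_univ i))
    · push Not at hj
      rw [hoff j hj]; exact zero_mem _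
  obtain ⟨r, a₀, ha, hva, hint⟩ := exists_descend V'' hk'' g' u false hmem (fun h => absurd h (by simp))
  have hr : r ≠ 0 := fun hr => hga'' (by
    obtain ⟨f, rfl⟩ := hπ a
    exact hint hr f)
  obtain ⟨lam, m, hmu, ⟨j₁, hj₁, hj₁'⟩, htriv⟩ := exists_mu hπ hG hset hv r a₀ ha (fun j => r j < 0)
    (fun i j hij hj => hij.trans hj) (fun j hj => hva j (Or.inl hj))
  have := h lam (fun ht => hr (htriv ht)) m hmu
  omega

omit [IsAlgClosed k] [CharZero k] [Algebra.FiniteType k A] [Fintype ι] in
theorem aeval_mul_of_isHomogeneous {B : Type u} [CommRing B] [Algebra k B] {F : MvPolynomial ι k} {d : ℕ}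
    (hF : F.IsHomogeneous d) (c : B) (x : ι → B) :
    MvPolynomial.aeval (fun i => c * x i) F = c ^ d * MvPolynomial.aeval x F := by
  rw [F.as_sum, map_sum, map_sum, Finset.mul_sum]
  refine Finset.sum_congr rfl fun s hs => ?_
  rw [MvPolynomial.aeval_monomial, MvPolynomial.aeval_monomial, Finsupp.prod, Finsupp.prod]
  simp only [mul_pow, Finset.prod_mul_distrib, Finset.prod_pow_eq_pow_sum]
  rw [show (∑ i ∈ s.support, s i) = d from (Finsupp.degree_eq_weight_one (R := ℕ) ▸ hF (MvPolynomial.mem_support_iff.1 hs) :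
    Finsupp.degree s = d)]
  ring

omit [IsAlgClosed k] [CharZero k] [Algebra.FiniteType k A] in
theorem forall_of_isSemistableVec {v : ι → k} (h : GLin.IsSemistableVec k A v)
    (lam : A →ₐc[k] k[T;T⁻¹]) (m : ℤ) (hmu : GLin.IsMu k A lam v m) : 0 ≤ m := by
  classical
  by_contra hm
  refine h fun F hF d hd hFd => ?_
  obtain ⟨q, hq, -⟩ := hmu
  have h1 : GLin.lamOrbit k A lam (GLin.vecPt k ι v) F = LaurentPolynomial.C (MvPolynomial.eval v F) := by
    rw [GLin.lamOrbit, AlgHom.comp_apply, GrothLib.AffQuot.invariant_eq (show F ∈ HopfRep.fixedPts k A _ from hF),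
      AlgHom.commutes]
    rfl
  have h2 : Polynomial.toLaurent (q F) = LaurentPolynomial.T (m * d) * LaurentPolynomial.C (MvPolynomial.eval v F) := by
    rw [← Polynomial.toLaurentAlg_apply, ← AlgHom.comp_apply, hq, GLin.shiftedOrbit, aeval_mul_of_isHomogeneous hFd,
      show MvPolynomial.aeval (fun i => GLin.lamOrbit k A lam (GLin.vecPt k ι v) (MvPolynomial.X i)) F =
        GLin.lamOrbit k A lam (GLin.vecPt k ι v) F from (AlgHom.congr_fun (MvPolynomial.aeval_unique _) F).symm, h1, LaurentPolynomial.T_pow, mul_comm (d : ℤ) m]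
  have h3 := congrArg (fun P : k[T;T⁻¹] => P.coeff (m * d)) h2
  simp only [mul_comm (LaurentPolynomial.T (m * d)), ← LaurentPolynomial.single_eq_C_mul_T, AddMonoidAlgebra.coeff_single,
    Finsupp.single_eq_same] at h3
  have hneg : m * d < 0 := mul_neg_of_neg_of_pos (by omega) (by exact_mod_cast hd)
  rw [← h3]
  induction q F using Polynomial.induction_on' with
  | add a b ha hb => rw [map_add, AddMonoidAlgebra.coeff_add, Finsupp.add_apply, ha, hb, add_zero]
  | monomial n b =>
    rw [← Polynomial.C_mul_X_pow_eq_monomial, Polynomial.toLaurent_C_mul_X_pow, ← LaurentPolynomial.single_eq_C_mul_T,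
      AddMonoidAlgebra.coeff_single, Finsupp.single_eq_of_ne (by omega)]

theorem forall_of_isStableVec {v : ι → k} (h : GLin.IsStableVec k A v) (lam : A →ₐc[k] k[T;T⁻¹])
    (hlam : ¬ SGA3t2b.IsTrivialBialgHom lam) (m : ℤ) (hmu : GLin.IsMu k A lam v m) : 0 < m := by
  classical
  by_contra hm
  let x := GLin.vecPt k ι v
  obtain ⟨hclosed, hfin⟩ := (GrothLib.AffQuot.isStablePt_iff x).1 h
  obtain ⟨q, hq, -⟩ := hmu
  let n := (-m).toNat
  let q' : MvPolynomial ι k →ₐ[k] Polynomial k := MvPolynomial.aeval fun i => Polynomial.X ^ n * q (MvPolynomial.X i)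
  have hq' : (Polynomial.toLaurentAlg (R := k)).comp q' = GLin.lamOrbit k A lam x := MvPolynomial.algHom_ext fun i => by
    simp only [AlgHom.comp_apply, q', MvPolynomial.aeval_X, map_mul, map_pow]
    have := AlgHom.congr_fun hq (MvPolynomial.X i)
    rw [AlgHom.comp_apply, GLin.shiftedOrbit, MvPolynomial.aeval_X] at this
    rw [this, Polynomial.toLaurentAlg_apply, Polynomial.toLaurent_X, LaurentPolynomial.T_pow, ← mul_assoc,
      ← LaurentPolynomial.T_add, show (n : ℤ) * 1 + m = 0 by omega, LaurentPolynomial.T_zero, one_mul]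
  let y : MvPolynomial ι k →ₐ[k] k := (Polynomial.aeval (0 : k)).comp q'
  obtain ⟨g, hg⟩ := hclosed y fun f hf => by
    have : q' f = 0 := Polynomial.toLaurent_injective (by
      rw [map_zero, ← Polynomial.toLaurentAlg_apply, ← AlgHom.comp_apply, hq', GLin.lamOrbit, AlgHom.comp_apply, hf, map_zero])
    change Polynomial.aeval (0 : k) (q' f) = 0
    rw [this, map_zero]
  let qs : kˣ → (A →ₐ[k] k) := fun s => (evAt k k s).comp (lam : A →ₐ[k] k[T;T⁻¹])
  have heval : ∀ (t : kˣ) (f), Polynomial.eval (t : k) (q' f) = qs t (GLin.orbitHom k A x f) := by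
    intro t f
    refine Eq.trans ?_ (congrArg (evAt k k t) (AlgHom.congr_fun hq' f))
    rw [AlgHom.comp_apply]
    induction q' f using Polynomial.induction_on' with
    | add a b ha hb => rw [Polynomial.eval_add, map_add, map_add, ha, hb]
    | monomial l b =>
      rw [← Polynomial.C_mul_X_pow_eq_monomial, Polynomial.toLaurentAlg_apply, Polynomial.toLaurent_C_mul_X_pow,
        ← LaurentPolynomial.single_eq_C_mul_T, evAt_single, zpow_natCast, Units.val_pow_eq_pow_val,
        Polynomial.eval_C_mul, Polynomial.eval_pow, Polynomial.eval_X, smul_eq_mul, mul_comm]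
  have hmul : ∀ t s, (WithConv.toConv (qs t) * WithConv.toConv (qs s)).ofConv = qs (t * s) := by
    intro t s
    refine AlgHom.ext fun b => ?_
    rw [AlgHom.convMul_def]
    simp only [WithConv.ofConv_toConv, AlgHom.comp_apply, Bialgebra.comulAlgHom_apply]
    change _ = evAt k k (t * s) (lam b)
    have hlb := CoalgHomClass.map_comp_comul_apply (R := k) lam b
    have key : ∀ P : k[T;T⁻¹], Algebra.TensorProduct.lmul' k (S := k)
        (Algebra.TensorProduct.map (evAt k k t) (evAt k k s) (Coalgebra.comul (R := k) P)) = evAt k k (t * s) P := by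
      intro P
      induction P using LaurentPolynomial.induction_on' with
      | add a c ha hc => rw [map_add, map_add, map_add, ha, hc, map_add]
      | C_mul_T l c =>
        rw [show (LaurentPolynomial.C c : k[T;T⁻¹]) * LaurentPolynomial.T l = c • LaurentPolynomial.T l from
          (Algebra.smul_def _ _).symm, map_smul, map_smul, map_smul, map_smul, LaurentPolynomial.comul_T,
          Algebra.TensorProduct.map_tmul, Algebra.TensorProduct.lmul'_apply_tmul]
        congr 1
        rw [show (LaurentPolynomial.T l : k[T;T⁻¹]) = AddMonoidAlgebra.single l 1 from rfl, evAt_single, evAt_single,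
          evAt_single, mul_zpow, Units.val_mul]
        simp
    rw [← key, ← hlb]
    induction Coalgebra.comul (R := k) b using TensorProduct.induction_on with
    | zero => simp
    | tmul a c => simp [qs]
    | add a c ha hc => simp only [map_add, ha, hc]
  have hfix : ∀ s, qs s ∈ GrothLib.AffQuot.transporter k A y y := by
    intro s
    refine AlgHom.ext fun f => ?_
    rw [AlgHom.comp_apply, GrothLib.AffQuot.apply_orbitHom]
    let fs := HopfRep.Comod.act k A _ (qs s) f
    have hpoly : q' fs = (q' f).comp (Polynomial.C (s : k) * Polynomial.X) := by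
      refine Polynomial.eq_of_infinite_eval_eq _ _ ?_
      refine ((Set.infinite_univ (α := k)).diff (Set.finite_singleton 0)).mono fun t ht => ?_
      have ht0 : t ≠ 0 := fun h => ht.2 h
      rw [Set.mem_setOf_eq, Polynomial.eval_comp, Polynomial.eval_C_mul, Polynomial.eval_X,
        show t = (Units.mk0 t ht0 : k) from rfl, heval, ← Units.val_mul, heval,
        mul_comm s, ← hmul, GrothLib.AffQuot.apply_orbitHom]
      symm
      have := AlgHom.congr_fun (GrothLib.AffQuot.comp_orbitHom_comp x (qs (Units.mk0 t ht0)) (qs s)) f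
      rw [AlgHom.comp_apply, GrothLib.AffQuot.apply_orbitHom, AlgHom.comp_apply, GrothLib.AffQuot.apply_orbitHom,
        AlgHom.comp_apply] at this
      first | exact this | exact this.symm
    change Polynomial.aeval (0 : k) (q' fs) = Polynomial.aeval (0 : k) (q' f)
    rw [hpoly, Polynomial.aeval_comp]
    simp
  have hfy : (GrothLib.AffQuot.transporter k A y y).Finite := (GrothLib.AffQuot.transporter_finite_iff ⟨g, hg⟩).2 hfin
  refine hlam fun b => ?_
  let C₀ : Finset k := hfy.toFinset.image fun G => G b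
  have hprod : (∏ c ∈ C₀, ((lam : A →ₐ[k] k[T;T⁻¹]) b - algebraMap k k[T;T⁻¹] c)) = 0 := by
    refine eq_zero_of_evAt fun s => ?_
    rw [map_prod]
    refine Finset.prod_eq_zero (i := qs s b) (Finset.mem_image.2 ⟨qs s, hfy.mem_toFinset.2 (hfix s), rfl⟩) ?_
    rw [map_sub, AlgHom.commutes, Algebra.algebraMap_self, RingHom.id_apply]
    exact sub_self _
  obtain ⟨c, -, hc⟩ := Finset.prod_eq_zero_iff.1 hprod
  rw [sub_eq_zero] at hc
  have hcounit := CoalgHomClass.counit_comp_apply (R := k) lam b
  change (lam : A →ₐ[k] k[T;T⁻¹]) b = _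
  rw [← hcounit]
  change _ = algebraMap k _ (Coalgebra.counit (R := k) ((lam : A →ₐ[k] k[T;T⁻¹]) b))
  rw [hc, Bialgebra.counit_algebraMap]

end GrothLib.HMG
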