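import Groth.Agent.S4433
import Mathlib.RingTheory.Localization.AtPrime.Basic
import Mathlib.RingTheory.Localization.LocalizationLocalization
import Mathlib.RingTheory.FiniteType

/-!
# Replacing a valuation of a finitely generated field extension by a discrete one
-/

universe u

namespace GrothLib.HMG

theorem exists_dvr {k K : Type u} [Field k] [Field K] [Algebra k K] (V : ValuationSubring K)
    (hk : ∀ c, algebraMap k K c ∈ V) (s S S₀ : Finset K)
    (hgen : Subfield.closure ((s : Set K) ∪ Set.range (algebraMap k K)) = ⊤) (hS : ∀ x ∈ S, x ∈ V)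
    (hS₀ : ∀ x ∈ S₀, V.valuation x < 1) (y : K) (hy : y ∈ S₀) (hy0 : y ≠ 0) :
    ∃ V' : ValuationSubring K, IsDiscreteValuationRing V' ∧ (∀ c, algebraMap k K c ∈ V') ∧
      (∀ x ∈ S, x ∈ V') ∧ ∀ x ∈ S₀, V'.valuation x < 1 := by
  classical
  let pick : K → K := fun a => if a ∈ V then a else a⁻¹
  let T : Finset K := S ∪ S₀ ∪ s.image pick
  have hT : ∀ x ∈ T, x ∈ V := by
    intro x hx
    simp only [T, Finset.mem_union, Finset.mem_image] at hx
    rcases hx with (h | h) | ⟨a, -, rfl⟩
    · exact hS x h
    · exact (V.valuation_le_one_iff x).1 (hS₀ x h).le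
    · simp only [pick]
      split_ifs with ha
      · exact ha
      · exact (V.mem_or_inv_mem a).resolve_left ha
  let V₀ : Subalgebra k K := { V.toSubring.toSubsemiring with algebraMap_mem' := hk }
  let B : Subalgebra k K := Algebra.adjoin k (T : Set K)
  have hBV : B ≤ V₀ := Algebra.adjoin_le hT
  have hTB : ∀ x ∈ T, x ∈ B := fun x hx => Algebra.subset_adjoin hx
  haveI : IsFractionRing B K := by
    haveI : FaithfulSMul B K := (faithfulSMul_iff_algebraMap_injective B K).2 Subtype.val_injective
    refine IsFractionRing.of_field B K fun z => ?_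
    have hle : Subfield.closure ((s : Set K) ∪ Set.range (algebraMap k K)) ≤ Subfield.closure (B : Set K) := by
      refine Subfield.closure_le.2 ?_
      rintro a (ha | ⟨c, rfl⟩)
      · have hp : pick a ∈ B := hTB _ (Finset.mem_union_right _ (Finset.mem_image_of_mem pick ha))
        simp only [pick] at hp
        split_ifs at hp with h
        · exact Subfield.subset_closure hp
        · simpa using inv_mem (Subfield.subset_closure hp : a⁻¹ ∈ Subfield.closure (B : Set K))
      · exact Subfield.subset_closure (B.algebraMap_mem c)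
    rw [hgen] at hle
    obtain ⟨a, ha, b, hb, rfl⟩ := Subfield.mem_closure_iff.1 (hle (Subfield.mem_top z))
    have hcl : Subring.closure (B : Set K) ≤ B.toSubring := Subring.closure_le.2 fun x hx => hx
    exact ⟨⟨a, hcl ha⟩, ⟨b, hcl hb⟩, rfl⟩
  let P : Ideal B := (IsLocalRing.maximalIdeal V).comap
    ({ toFun := fun b => ⟨(b : K), hBV b.2⟩, map_one' := rfl, map_mul' := fun _ _ => rfl,
       map_zero' := rfl, map_add' := fun _ _ => rfl } : B →+* V)
  have hP : ∀ b : B, b ∈ P ↔ V.valuation (b : K) < 1 := fun b => V.valuation_lt_one_iff ⟨(b : K), hBV b.2⟩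
  haveI : P.IsPrime := Ideal.IsPrime.comap _
  have hP0 : P ≠ ⊥ := fun h => hy0 (by
    have hm : (⟨y, hTB y (by simp [T, hy])⟩ : B) ∈ P := (hP _).2 (hS₀ y hy)
    rw [h, Ideal.mem_bot] at hm
    exact congrArg Subtype.val hm)
  let A' := Localization.AtPrime P
  haveI : IsNoetherianRing B := by
    haveI : Algebra.FiniteType k B := (Subalgebra.fg_iff_finiteType B).1 ⟨T, rfl⟩
    exact Algebra.FiniteType.isNoetherianRing k B
  haveI : IsNoetherianRing A' := IsLocalization.isNoetherianRing P.primeCompl A' inferInstance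
  have hcompl : P.primeCompl ≤ nonZeroDivisors B := Ideal.primeCompl_le_nonZeroDivisors P
  haveI : IsDomain A' := IsLocalization.isDomain_localization hcompl
  letI : Algebra A' K := (IsLocalization.lift (M := P.primeCompl) (g := algebraMap B K)
    (fun b => IsLocalization.map_units K (⟨b, hcompl b.2⟩ : nonZeroDivisors B))).toAlgebra
  haveI : IsScalarTower B A' K := IsScalarTower.of_algebraMap_eq fun b => (IsLocalization.lift_eq _ b).symm
  haveI : IsFractionRing A' K := IsFractionRing.isFractionRing_of_isDomain_of_isLocalization P.primeCompl A' K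
  have hA' : ¬ IsField A' := fun hf => hP0 (by
    have h1 := IsLocalization.AtPrime.comap_maximalIdeal A' P
    rw [IsLocalRing.isField_iff_maximalIdeal_eq.1 hf] at h1
    rw [← h1]
    exact Ideal.comap_bot_of_injective _ (IsLocalization.injective A' hcompl))
  obtain ⟨V', hV', hmem, hlt⟩ := Groth.Agent.S4433.result A' hA' K K
    (by rw [show (⊤ : IntermediateField K K) = ⊥ from le_antisymm (fun x _ => IntermediateField.algebraMap_mem ⊥ x) bot_le]; exact IntermediateField.fg_bot)
  have hB : ∀ b : B, (b : K) ∈ V' := fun b => by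
    have := hmem (algebraMap B A' b)
    rwa [← IsScalarTower.algebraMap_apply] at this
  have hPlt : ∀ b : B, b ∈ P → V'.valuation (b : K) < 1 := fun b hb => by
    have := hlt (algebraMap B A' b) ((IsLocalization.AtPrime.to_map_mem_maximal_iff A' P b).2 hb)
    rwa [← IsScalarTower.algebraMap_apply] at this
  exact ⟨V', hV', fun c => hB ⟨_, B.algebraMap_mem c⟩, fun x hx => hB ⟨x, hTB x (by simp [T, hx])⟩,
    fun x hx => hPlt ⟨x, hTB x (by simp [T, hx])⟩ ((hP _).2 (hS₀ x hx))⟩

end GrothLib.HMG
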