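import Groth.Agent.Lib.HMG.DVR
import Mathlib.RingTheory.Localization.FractionRing

/-!
# Valued points and their fields of definition
-/

universe u

namespace GrothLib.HMG

variable {k : Type u} [Field k] {A : Type u} [CommRing A] [Algebra k A]

/-- the field of definition of a point -/
theorem exists_frac [Algebra.FiniteType k A] {K : Type u} [Field K] [Algebra k K] (g : A →ₐ[k] K) :
    ∃ (K' : Type u) (_ : Field K') (_ : Algebra k K') (ι : K' →ₐ[k] K) (g' : A →ₐ[k] K') (s : Finset K'),
      ι.comp g' = g ∧ Subfield.closure ((s : Set K') ∪ Set.range (algebraMap k K')) = ⊤ := by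
  classical
  haveI : (RingHom.ker g).IsPrime := RingHom.ker_isPrime g
  let D := A ⧸ RingHom.ker g
  let K' := FractionRing D
  have hinj : Function.Injective (Ideal.Quotient.liftₐ (RingHom.ker g) g fun _ h => h) :=
    RingHom.kerLift_injective g.toRingHom
  let ι : K' →ₐ[k] K := IsFractionRing.liftAlgHom hinj
  let g' : A →ₐ[k] K' := (IsScalarTower.toAlgHom k D K').comp (Ideal.Quotient.mkₐ k _)
  obtain ⟨t, ht⟩ := (inferInstance : Algebra.FiniteType k A).out
  refine ⟨K', inferInstance, inferInstance, ι, g', t.image g', AlgHom.ext fun a => ?_, ?_⟩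
  · change IsFractionRing.liftAlgHom hinj (algebraMap D K' (Ideal.Quotient.mk _ a)) = g a
    exact IsLocalization.lift_eq _ _
  · refine top_unique fun z _ => ?_
    obtain ⟨a, b, -, rfl⟩ := IsFractionRing.div_surjective (A := D) z
    have h : ∀ x : D, algebraMap D K' x ∈ Subfield.closure (((t.image g' : Finset K') : Set K') ∪ Set.range (algebraMap k K')) := by
      intro x
      obtain ⟨x, rfl⟩ := Ideal.Quotient.mk_surjective x
      induction (ht.ge (Algebra.mem_top (x := x))) using Algebra.adjoin_induction with
      | mem z hz =>
        refine Subfield.subset_closure (Or.inl ?_)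
        simp only [Finset.coe_image]
        exact ⟨z, hz, rfl⟩
      | algebraMap c => exact Subfield.subset_closure (Or.inr ⟨c, (g'.commutes c).symm⟩)
      | add a b _ _ ha hb => rw [map_add, map_add]; exact add_mem ha hb
      | mul a b _ _ ha hb => rw [map_mul, map_mul]; exact mul_mem ha hb
    exact div_mem (h a) (h b)

end GrothLib.HMG
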