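import Groth.Agent.Lib.HMG.Lambda
import Groth.Agent.Lib.HMG.Embed
import Groth.Agent.Lib.HMG.Frac
import Groth.Agent.Lib.HM.Smith
import Mathlib.RingTheory.DiscreteValuationRing.Basic
import Mathlib.RingTheory.Bialgebra.MonoidAlgebra

/-!
# The Hilbert-Mumford theorem: existence of a one-parameter subgroup
-/

universe u

open TensorProduct CoordGrp
open scoped LaurentPolynomial

namespace GrothLib.HMG

variable {k : Type u} [Field k] [IsAlgClosed k] [CharZero k] {N : ℕ} {A : Type u} [CommRing A] [HopfAlgebra k A]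
  [Algebra.FiniteType k A] {π : GLn N k →ₐc[k] A}

theorem exists_descend {K : Type u} [Field K] [Algebra k K] (V : ValuationSubring K) [IsDiscreteValuationRing V]
    (hk : ∀ c, algebraMap k K c ∈ V) (h : A →ₐ[k] K) (v : Fin N → k) (strict : Bool)
    (hv : ∀ j, Matrix.vecMul (fun i => algebraMap k K (v i)) (mat (h.comp (π : GLn N k →ₐ[k] A))) j ∈ V)
    (hv' : strict = true → ∀ j,
      V.valuation (Matrix.vecMul (fun i => algebraMap k K (v i)) (mat (h.comp (π : GLn N k →ₐ[k] A))) j) < 1) :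
    ∃ (r : Fin N → ℤ) (a : GLn N k →ₐ[k] k), Nonneg π r a ∧
      (∀ j, (r j < 0 ∨ strict = true ∧ r j ≤ 0) → Matrix.vecMul v (mat a) j = 0) ∧
      (r = 0 → ∀ f, h (π f) ∈ V) := by
  classical
  let g : GLn N k →ₐ[k] K := h.comp (π : GLn N k →ₐ[k] A)
  letI : Algebra k V := ((algebraMap k K).codRestrict V.toSubring hk).toAlgebra
  haveI : IsScalarTower k V K := IsScalarTower.of_algebraMap_eq fun _ => rfl
  let vK : Fin N → K := fun i => algebraMap k K (v i)
  obtain ⟨SA, SB, e, hA, hB, hM⟩ := GrothLib.HM.exists_smith (R := V) (mat g)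
  have he : ∀ i, e i ≠ 0 := fun i h0 => (isUnit_det_mat g).ne_zero (by
    rw [hM, Matrix.det_mul, Matrix.det_mul, Matrix.det_diagonal, Finset.prod_eq_zero (Finset.mem_univ i) h0,
      mul_zero, zero_mul])
  obtain ⟨ϖ, hϖ⟩ := IsDiscreteValuationRing.exists_irreducible V
  have hϖ0 : (ϖ : K) ≠ 0 := fun h => hϖ.ne_zero (Subtype.ext h)
  let P : Kˣ := Units.mk0 (ϖ : K) hϖ0
  have hdec : ∀ i, ∃ (u : Vˣ) (n : ℤ), e i = ((u : V) : K) * (P ^ n : Kˣ) := by
    intro i
    rcases V.mem_or_inv_mem (e i) with hm | hm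
    · obtain ⟨n, u, hu⟩ := IsDiscreteValuationRing.eq_unit_mul_pow_irreducible
        (x := (⟨e i, hm⟩ : V)) (fun h => he i (congrArg Subtype.val h)) hϖ
      refine ⟨u, n, ?_⟩
      rw [zpow_natCast, Units.val_pow_eq_pow_val]
      exact congrArg Subtype.val hu
    · obtain ⟨n, u, hu⟩ := IsDiscreteValuationRing.eq_unit_mul_pow_irreducible
        (x := (⟨(e i)⁻¹, hm⟩ : V)) (fun h => inv_ne_zero (he i) (congrArg Subtype.val h)) hϖ
      refine ⟨u⁻¹, -n, ?_⟩
      have h1 : (e i)⁻¹ = ((u : V) : K) * (ϖ : K) ^ n := congrArg Subtype.val hu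
      have h2 : (((u⁻¹ : Vˣ) : V) : K) = (((u : V) : K))⁻¹ :=
        eq_inv_of_mul_eq_one_left (by rw [← MulMemClass.coe_mul, Units.inv_mul]; rfl)
      rw [h2, zpow_neg, zpow_natCast, Units.val_inv_eq_inv_val, Units.val_pow_eq_pow_val, Units.val_mk0,
        ← mul_inv, ← h1, inv_inv]
  choose u r hur using hdec
  let SA' : Matrix (Fin N) (Fin N) V := SA * Matrix.diagonal fun i => (u i : V)
  have hA' : IsUnit SA'.det := by
    rw [Matrix.det_mul, hA, one_mul, Matrix.det_diagonal]
    exact IsUnit.prod_iff.2 fun i _ => (u i).isUnit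
  let aV : GLn N k →ₐ[k] V := ofMat SA' hA'
  let bV : GLn N k →ₐ[k] V := ofMat SB (hB ▸ isUnit_one)
  let val : V →ₐ[k] K := IsScalarTower.toAlgHom k V K
  let Dd : Matrix (Fin N) (Fin N) K := Matrix.diagonal fun i => ((P ^ r i : Kˣ) : K)
  have hDd : IsUnit Dd.det := by
    rw [Matrix.det_diagonal]
    exact IsUnit.prod_iff.2 fun i _ => Units.isUnit _
  let dK : GLn N k →ₐ[k] K := ofMat Dd hDd
  have hg : g = pmul (pmul (val.comp aV) dK) (val.comp bV) := ext_mat (by
    rw [mat_pmul, mat_pmul, mat_comp val aV, mat_comp val bV, mat_ofMat, mat_ofMat, mat_ofMat, hM]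
    congr 1
    change SA.map (algebraMap V K) * Matrix.diagonal e = SA'.map (algebraMap V K) * Dd
    rw [Matrix.map_mul, mul_assoc, Matrix.diagonal_map (map_zero _), Matrix.diagonal_mul_diagonal]
    congr 2
    exact funext hur)
  have hAD : pmul g (pinv (val.comp bV)) = pmul (val.comp aV) dK := by
    rw [hg, pmul_assoc, pmul_pinv, pmul_pone]
  -- evaluation at the uniformiser
  let evP : K[T;T⁻¹] →ₐ[k] K :=
    { toRingHom := LaurentPolynomial.eval₂ (RingHom.id K) P
      commutes' := fun c => LaurentPolynomial.eval₂_C _ _ (algebraMap k K c) }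
  have hevP : ∀ (n : ℤ) (b : K), evP (AddMonoidAlgebra.single n b : K[T;T⁻¹]) = b * (P ^ n : Kˣ) := fun n b => by
    rw [LaurentPolynomial.single_eq_C_mul_T]
    exact LaurentPolynomial.eval₂_C_mul_T _ _ b n
  have hevT : evP.comp (theta r (val.comp aV)) = pmul (val.comp aV) dK := ext_mat (Matrix.ext fun i j => by
    rw [mat_comp, Matrix.map_apply, mat_theta, hevP, mat_pmul, mat_ofMat (k := k) Dd hDd, Matrix.mul_diagonal])
  let res₀ : V →ₐ[k] IsLocalRing.ResidueField V := IsScalarTower.toAlgHom k V (IsLocalRing.ResidueField V)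
  have hres₀ : ∀ x : V, V.valuation (x : K) < 1 → res₀ x = 0 := fun x hx =>
    (IsLocalRing.residue_eq_zero_iff x).2 ((V.valuation_lt_one_iff x).2 hx)
  have hlt : V.valuation (ϖ : K) < 1 :=
    (V.valuation_lt_one_iff ϖ).1 ((IsLocalRing.mem_maximalIdeal _).2 hϖ.not_isUnit)
  have hpow : ∀ n : ℤ, n ≤ 0 → ∀ x : K, V.valuation (x * (P ^ n : Kˣ)) < 1 → V.valuation x < 1 := by
    intro n hn x hx
    obtain ⟨l, rfl⟩ : ∃ l : ℕ, n = -(l : ℤ) := ⟨n.natAbs, by omega⟩
    rw [zpow_neg, zpow_natCast, Units.val_inv_eq_inv_val, Units.val_pow_eq_pow_val, Units.val_mk0] at hx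
    have h1 : x = x * ((ϖ : K) ^ l)⁻¹ * (ϖ : K) ^ l := by rw [inv_mul_cancel_right₀ (pow_ne_zero _ hϖ0)]
    rw [h1, map_mul, map_pow]
    exact mul_lt_one_of_nonneg_of_lt_one_left zero_le' hx (pow_le_one₀ zero_le' hlt.le)
  have hpow' : ∀ n : ℤ, n < 0 → ∀ x : K, x * (P ^ n : Kˣ) ∈ V → V.valuation x < 1 := by
    intro n hn x hx
    obtain ⟨l, rfl⟩ : ∃ l : ℕ, n = -((l + 1 : ℕ) : ℤ) := ⟨n.natAbs - 1, by omega⟩
    rw [zpow_neg, zpow_natCast, Units.val_inv_eq_inv_val, Units.val_pow_eq_pow_val, Units.val_mk0] at hx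
    have h1 : x = x * ((ϖ : K) ^ (l + 1))⁻¹ * (ϖ : K) ^ (l + 1) := by rw [inv_mul_cancel_right₀ (pow_ne_zero _ hϖ0)]
    rw [h1, map_mul, map_pow]
    exact mul_lt_one_of_nonneg_of_lt_one_right ((V.valuation_le_one_iff _).2 hx) zero_le'
      (pow_lt_one₀ zero_le' hlt (Nat.succ_ne_zero l))
  let aκ : GLn N k →ₐ[k] IsLocalRing.ResidueField V := res₀.comp aV
  -- the conditions
  let Pv : Fin N → Prop := fun j => r j < 0 ∨ strict = true ∧ r j ≤ 0
  have hc : ∀ c : Inv π, ∀ n < 0, aκ (comp' π r c n : GLn N k) = 0 := by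
    intro c n hn
    refine hres₀ _ (hpow' n hn _ ?_)
    change (val (aV (comp' π r c n : GLn N k))) * _ ∈ V
    have h1 : pmul (val.comp aV) dK (comp' π r c n : GLn N k) =
        val (aV (comp' π r c n : GLn N k)) * ((P ^ n : Kˣ) : K) := by
      rw [← hevT, AlgHom.comp_apply, theta_comp, hevP]
      rfl
    rw [← h1, ← hAD, apply_left h _ (comp' π r c n).2,
      show pinv (val.comp bV) = val.comp (pinv bV) from AlgHom.comp_assoc _ _ _, AlgHom.comp_apply]
    exact SetLike.coe_mem _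
  have hvj : ∀ j, Pv j → Matrix.vecMul (fun i => algebraMap k (IsLocalRing.ResidueField V) (v i)) (mat aκ) j = 0 := by
    intro j hj
    let z : V := Matrix.vecMul (fun i => algebraMap k V (v i)) (mat aV) j
    have hz : res₀ z = Matrix.vecMul (fun i => algebraMap k (IsLocalRing.ResidueField V) (v i)) (mat aκ) j := by
      simp only [z, Matrix.vecMul, dotProduct, map_sum, map_mul, AlgHom.commutes]
      rfl
    rw [← hz]
    have hzK : (z : K) * ((P ^ r j : Kˣ) : K) =
        Matrix.vecMul (Matrix.vecMul vK (mat g)) (mat (pinv (val.comp bV))) j := by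
      rw [Matrix.vecMul_vecMul, ← mat_pmul, hAD, mat_pmul, ← Matrix.vecMul_vecMul, mat_ofMat, Matrix.vecMul_diagonal]
      congr 1
      change algebraMap V K z = _
      simp only [z, Matrix.vecMul, dotProduct, map_sum, map_mul, ← IsScalarTower.algebraMap_apply]
      rfl
    have hbmem : ∀ i l, mat (pinv (val.comp bV)) i l ∈ V := fun i l => by
      rw [show pinv (val.comp bV) = val.comp (pinv bV) from AlgHom.comp_assoc _ _ _]
      exact SetLike.coe_mem _
    refine hres₀ z ?_
    rcases hj with hj | ⟨hs, hj⟩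
    · refine hpow' _ hj _ ?_
      rw [hzK]
      change ∑ i, Matrix.vecMul vK (mat g) i * mat (pinv (val.comp bV)) i j ∈ V
      exact sum_mem fun i _ => mul_mem (hv i) (hbmem i j)
    · refine hpow _ hj _ ?_
      rw [hzK]
      change V.valuation (∑ i, Matrix.vecMul vK (mat g) i * mat (pinv (val.comp bV)) i j) < 1
      refine V.valuation.map_sum_lt one_ne_zero fun i _ => ?_
      rw [map_mul]
      exact mul_lt_one_of_nonneg_of_lt_one_left zero_le' (hv' hs i) ((V.valuation_le_one_iff _).2 (hbmem i j))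
  -- descend
  let S : Set (GLn N k) := {f | ∃ (c : Inv π) (n : ℤ), n < 0 ∧ f = (comp' π r c n : GLn N k)} ∪
    {f | ∃ j, Pv j ∧ f = Matrix.vecMul (fun i => algebraMap k (GLn N k) (v i)) (mat (gen k N)) j}
  have hS : Ideal.span S ≤ RingHom.ker aκ := Ideal.span_le.2 (by
    rintro f (⟨c, n, hn, rfl⟩ | ⟨j, hj, rfl⟩) <;> rw [SetLike.mem_coe, RingHom.mem_ker]
    · exact hc c n hn
    · rw [← hvj j hj]
      simp only [Matrix.vecMul, dotProduct, map_sum, map_mul, AlgHom.commutes]
      rfl)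
  have htop : Ideal.span S ≠ ⊤ := fun h => RingHom.ker_ne_top aκ (top_unique (h ▸ hS))
  obtain ⟨M, hM', hSM⟩ := Ideal.exists_le_maximal _ htop
  obtain ⟨a, rfl⟩ := GrothLib.AffQuot.exists_ker_eq (k := k) M
  refine ⟨r, a, fun c n hn => hSM (Ideal.subset_span (Or.inl ⟨c, n, hn, rfl⟩)), fun j hj => ?_, fun hr f => ?_⟩
  · have h1 : a (Matrix.vecMul (fun i => algebraMap k (GLn N k) (v i)) (mat (gen k N)) j) = 0 :=
      hSM (Ideal.subset_span (Or.inr ⟨j, hj, rfl⟩))
    rw [← h1]
    simp only [Matrix.vecMul, dotProduct, map_sum, map_mul, AlgHom.commutes]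
    rfl
  · have hd1 : dK = pone k (GLn N k) K := ext_mat (by
      rw [mat_ofMat, mat_pone]
      simp [Dd, hr])
    have : g = val.comp (pmul aV bV) := by rw [hg, hd1, pmul_pone, comp_pmul]
    change g f ∈ V
    rw [this]
    exact SetLike.coe_mem _

/-- A one-parameter subgroup in the subgroup, adapted to a vector. -/
theorem exists_oneParam (hπ : Function.Surjective π) {α : A →ₗ[k] k} (hα : Comodule.IsInvariant α) (h1 : α 1 = 1)
    (r : Fin N → ℤ) (a : GLn N k →ₐ[k] k) (ha : Nonneg π r a) (v : Fin N → k) (P : Fin N → Prop)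
    (hP : ∀ i j, r i < r j → P j → P i) (hv : ∀ j, P j → Matrix.vecMul v (mat a) j = 0) :
    ∃ (lam : A →ₐc[k] k[T;T⁻¹]) (Y Yi : Matrix (Fin N) (Fin N) k), Y * Yi = 1 ∧
      (∀ j, P j → Matrix.vecMul v Y j = 0) ∧
      mat ((lam : A →ₐ[k] k[T;T⁻¹]).comp (π : GLn N k →ₐ[k] A)) =
        Y.map LaurentPolynomial.C * Matrix.diagonal (fun i => LaurentPolynomial.T (r i)) * Yi.map LaurentPolynomial.C := by
  classical
  obtain ⟨y, hyv, hy⟩ := exists_fixed hπ hα h1 r a ha v P hP hv
  let L := k[T;T⁻¹]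
  let cy : GLn N k →ₐ[k] L := (cB k).comp y
  let lam' : GLn N k →ₐ[k] L := pmul (pmul cy (lamB k k r)) (pinv cy)
  let π' : GLn N k →ₐ[k] A := π
  have hmatI : mat (pinv cy) = (mat (pinv y)).map LaurentPolynomial.C := rfl
  have hmat : mat lam' = (mat y).map LaurentPolynomial.C * Matrix.diagonal (fun i => LaurentPolynomial.T (r i)) *
      (mat (pinv y)).map LaurentPolynomial.C := by
    rw [mat_pmul, mat_pmul, lamB, mat_ofMat, hmatI]
    rfl
  have hev : ∀ t : kˣ, ∃ q : A →ₐ[k] k, (evAt k k t).comp lam' = q.comp π' := by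
    intro t
    have e1 : (evAt k k t).comp lam' = pmul (pmul y (lamAt r k t)) (pinv y) := by
      rw [comp_pmul, comp_pmul]
      congr 1
      · congr 1
        exact AlgHom.ext fun f => evAt_cB t (y f)
      · exact AlgHom.ext fun f => evAt_cB t (pinv y f)
    obtain ⟨q, hq⟩ := exists_of_agree hπ hα h1 (pmul (pmul y (lamAt r k t)) (pinv y)) (by
      rw [← cmul_res, hy t, cmul_res, pmul_pinv])
    exact ⟨q, e1.trans hq⟩
  have hker : RingHom.ker π' ≤ RingHom.ker lam' := fun f hf => by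
    refine eq_zero_of_evAt fun t => ?_
    obtain ⟨q, hq⟩ := hev t
    rw [← AlgHom.comp_apply, hq, AlgHom.comp_apply, RingHom.mem_ker.1 hf, map_zero]
  let lamA : A →ₐ[k] L := factor π' hπ lam' hker
  have hlamA : lamA.comp π' = lam' := comp_factor ..
  have hεs : ∀ (n : ℤ) (c : k), Bialgebra.counitAlgHom k L (AddMonoidAlgebra.single n c) = c := fun n c => by
    rw [LaurentPolynomial.single_eq_C_mul_T, map_mul]
    rw [show (LaurentPolynomial.C c : L) = algebraMap k L c from rfl, AlgHom.commutes]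
    change c * Coalgebra.counit (R := k) (LaurentPolynomial.T n : L) = c
    rw [LaurentPolynomial.counit_T]
    simp
  have hcounit : (Bialgebra.counitAlgHom k L).comp lamA = Bialgebra.counitAlgHom k A := by
    refine AlgHom.ext fun a => ?_
    obtain ⟨f, rfl⟩ := hπ a
    have h2 : (Bialgebra.counitAlgHom k L).comp lam' = Bialgebra.counitAlgHom k (GLn N k) := by
      refine ext_mat ?_
      rw [mat_comp, hmat, Matrix.map_mul, Matrix.map_mul, Matrix.map_map, Matrix.map_map, Matrix.diagonal_map (map_zero _)]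
      have eC : (⇑(Bialgebra.counitAlgHom k L) ∘ ⇑(LaurentPolynomial.C : k →+* L)) = id := funext fun c => by
        exact hεs 0 c
      rw [eC, Matrix.map_id, Matrix.map_id]
      have eT : (fun i => Bialgebra.counitAlgHom k L (LaurentPolynomial.T (r i))) = fun _ => (1 : k) := funext fun i =>
        hεs (r i) 1
      rw [eT, Matrix.diagonal_one, mul_one, mat_mul_pinv]
      exact (mat_pone (k := k) (B := k)).symm
    rw [AlgHom.comp_apply, show lamA (π f) = lam' f from AlgHom.congr_fun hlamA f, ← AlgHom.comp_apply, h2]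
    exact (CoalgHomClass.counit_comp_apply π f).symm
  have hcomul : (Algebra.TensorProduct.map lamA lamA).comp (Bialgebra.comulAlgHom k A) =
      (Bialgebra.comulAlgHom k L).comp lamA := by
    refine AlgHom.ext fun a => ?_
    obtain ⟨f, rfl⟩ := hπ a
    let iL : L →ₐ[k] L ⊗[k] L := Algebra.TensorProduct.includeLeft
    let iR : L →ₐ[k] L ⊗[k] L := Algebra.TensorProduct.includeRight
    have h2 : pmul (iL.comp lam') (iR.comp lam') = (Bialgebra.comulAlgHom k L).comp lam' := by
      refine ext_mat ?_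
      rw [mat_pmul, mat_comp, mat_comp, mat_comp, hmat]
      simp only [Matrix.map_mul, Matrix.map_map, Matrix.diagonal_map (map_zero _)]
      have e1 : (⇑iR ∘ ⇑(LaurentPolynomial.C : k →+* L)) = ⇑iL ∘ ⇑(LaurentPolynomial.C : k →+* L) :=
        funext fun c => (iR.commutes c).trans (iL.commutes c).symm
      have e2 : (⇑(Bialgebra.comulAlgHom k L) ∘ ⇑(LaurentPolynomial.C : k →+* L)) = ⇑iL ∘ ⇑(LaurentPolynomial.C : k →+* L) :=
        funext fun c => ((Bialgebra.comulAlgHom k L).commutes c).trans (iL.commutes c).symm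
      rw [e1, e2]
      have e3 : (mat (pinv y)).map (⇑iL ∘ ⇑(LaurentPolynomial.C : k →+* L)) *
          (mat y).map (⇑iL ∘ ⇑(LaurentPolynomial.C : k →+* L)) = 1 := by
        change (mat (pinv y)).map (iL.toRingHom.comp (LaurentPolynomial.C : k →+* L)) *
          (mat y).map (iL.toRingHom.comp (LaurentPolynomial.C : k →+* L)) = 1
        rw [← Matrix.map_mul, mat_pinv_mul, Matrix.map_one _ (map_zero _) (map_one _)]
      simp only [mul_assoc]
      rw [← mul_assoc ((mat (pinv y)).map _) ((mat y).map _), e3, one_mul, ← mul_assoc (Matrix.diagonal _),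
        Matrix.diagonal_mul_diagonal]
      congr 2
      refine congrArg Matrix.diagonal (funext fun i => ?_)
      change iL (LaurentPolynomial.T (r i)) * iR (LaurentPolynomial.T (r i)) =
        Coalgebra.comul (R := k) (LaurentPolynomial.T (r i) : L)
      rw [LaurentPolynomial.comul_T]
      simp [iL, iR]
    have h3 : Algebra.TensorProduct.map lamA lamA (Coalgebra.comul (R := k) (π f)) =
        pmul (iL.comp lam') (iR.comp lam') f := by
      rw [← CoalgHomClass.map_comp_comul_apply π, ← hlamA]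
      change _ = Algebra.TensorProduct.lift _ _ (fun _ _ => Commute.all _ _) (Coalgebra.comul (R := k) f)
      induction Coalgebra.comul (R := k) f using TensorProduct.induction_on with
      | zero => simp
      | tmul p q => simp [iL, iR, π']
      | add p q hp hq => simp only [map_add, hp, hq]
    rw [AlgHom.comp_apply, Bialgebra.comulAlgHom_apply, h3, h2, AlgHom.comp_apply, AlgHom.comp_apply,
      show lamA (π f) = lam' f from AlgHom.congr_fun hlamA f]
  let lam : A →ₐc[k] L := BialgHom.ofAlgHom lamA hcounit hcomul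
  refine ⟨lam, mat y, mat (pinv y), mat_mul_pinv y, hyv, ?_⟩
  rw [← hmat]
  exact congrArg mat hlamA

end GrothLib.HMG
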