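import Groth.Agent.Lib.HMG.Main
import Groth.Agent.Lib.HMG.Integral
import Groth.Agent.Lib.AffQuot.Orbit
import Groth.Prelude.Def_GLin
import Groth.Prelude.Def_SGA3t2b

/-!
# Vectors of a linear representation: weights of one-parameter subgroups
-/

universe u

open TensorProduct CoordGrp
open scoped LaurentPolynomial

namespace GrothLib.HMG

variable {k : Type u} [Field k] {A : Type u} [CommRing A] [HopfAlgebra k A]
  {ι : Type u} [Fintype ι] [HopfRep.Comod k A (MvPolynomial ι k)] [GLin.IsCoactAlg k A (MvPolynomial ι k)]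

/-- A linear representation as part of an embedding into `GL_N`. -/
theorem exists_setup [Algebra.FiniteType k A] (hlin : GLin.IsLinear k A ι) (v : ι → k) :
    ∃ (N : ℕ) (π : GLn N k →ₐc[k] A) (u : Fin N → k) (p : ι → Fin N), Function.Surjective π ∧
      ∀ (B : Type u) [CommRing B] [Algebra k B] (g : A →ₐ[k] B),
        (∀ i, Matrix.vecMul (fun j => algebraMap k B (u j)) (mat (g.comp (π : GLn N k →ₐ[k] A))) (p i) =
          g (GLin.orbitHom k A (GLin.vecPt k ι v) (MvPolynomial.X i))) ∧
        ∀ j, (∀ i, p i ≠ j) → Matrix.vecMul (fun j => algebraMap k B (u j)) (mat (g.comp (π : GLn N k →ₐ[k] A))) j = 0 := by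
  classical
  obtain ⟨n, M₀, hM₀, hgen⟩ := exists_comat k A
  choose m hm using hlin
  let φ : ι → Module.Dual k (MvPolynomial ι k) := fun l => MvPolynomial.lcoeff k (Finsupp.single l 1)
  have hcf : ∀ i l, GrothLib.Comodule.cfMap (C := A) (φ l) (MvPolynomial.X i) = m i l := fun i l => by
    rw [GrothLib.Comodule.cfMap_apply, hm, map_sum, map_sum, Finset.sum_eq_single l]
    · simp [φ]
    · intro j _ hj
      simp [φ, MvPolynomial.coeff_X', Finsupp.single_left_inj one_ne_zero, hj]
    · exact fun h => absurd (Finset.mem_univ _) h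
  let Mι : Matrix ι ι A := fun l i => m i l
  have hMι : IsComat (k := k) Mι := by
    refine ⟨fun l i => ?_, fun l i => ?_⟩
    · have h := LinearMap.congr_fun (GrothLib.Comodule.isComodHom_cfMap (C := A) (φ l)) (MvPolynomial.X i)
      change Coalgebra.comul (R := k) (GrothLib.Comodule.cfMap (C := A) (φ l) (MvPolynomial.X i)) =
        (GrothLib.Comodule.cfMap (C := A) (φ l)).rTensor A
          (HopfRep.Comod.coact (k := k) (A := A) (MvPolynomial.X i : MvPolynomial ι k)) at h
      rw [hcf, hm, map_sum] at h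
      simp only [LinearMap.rTensor_tmul, hcf] at h
      exact h
    · have h := GrothLib.Comodule.counit_cfMap (C := A) (φ l) (MvPolynomial.X i)
      rw [hcf] at h
      refine h.trans ?_
      simp [φ, MvPolynomial.coeff_X', Finsupp.single_left_inj one_ne_zero, eq_comm]
  let e : Fin n ⊕ ι ≃ Fin (Fintype.card (Fin n ⊕ ι)) := Fintype.equivFin _
  let M' := (Matrix.fromBlocks M₀ 0 0 Mι).reindex e e
  have hM' : IsComat (k := k) M' := isComat_reindex e (isComat_fromBlocks hM₀ hMι)
  let π := glHom M' hM'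
  have hπ : Function.Surjective π := glHom_surjective M' hM' (top_unique (hgen.ge.trans (Algebra.adjoin_mono (by
    rintro _ ⟨q, rfl⟩
    exact ⟨(e (Sum.inl q.1), e (Sum.inl q.2)), by simp [M']⟩))))
  refine ⟨_, π, Sum.elim (0 : Fin n → k) v ∘ e.symm, fun i => e (Sum.inr i), hπ, fun B _ _ g => ?_⟩
  have key : ∀ b : Fin n ⊕ ι, Matrix.vecMul (fun j => algebraMap k B ((Sum.elim (0 : Fin n → k) v ∘ e.symm) j))
      (mat (g.comp (π : GLn _ k →ₐ[k] A))) (e b) =
      ∑ a : ι, algebraMap k B (v a) * g (Matrix.fromBlocks M₀ 0 0 Mι (Sum.inr a) b) := by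
    intro b
    simp only [Matrix.vecMul, dotProduct]
    rw [← Equiv.sum_comp e, Fintype.sum_sum_type]
    simp only [Function.comp_apply, Equiv.symm_apply_apply, Sum.elim_inl, Sum.elim_inr, Pi.zero_apply, map_zero,
      zero_mul, Finset.sum_const_zero, zero_add]
    refine Finset.sum_congr rfl fun a _ => ?_
    change _ * g (π (GLn.X (e (Sum.inr a)) (e b))) = _
    rw [glHom_X]
    simp [M']
  constructor
  · intro i
    rw [key]
    simp only [GLin.orbitHom, AlgHom.comp_apply, GLin.coactAlgHom_apply, hm, map_sum]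
    refine Finset.sum_congr rfl fun a _ => ?_
    simp [Mι, Algebra.smul_def]
  · intro j hj
    obtain ⟨b, rfl⟩ := e.surjective j
    rcases b with b | b
    · rw [key]
      simp
    · exact absurd rfl (hj b)

variable {N : ℕ} {π : GLn N k →ₐc[k] A} {u : Fin N → k} {p : ι → Fin N} {v : ι → k}

/-- The numerical function along a diagonalised one-parameter subgroup. -/
theorem isMu_of_weights (lam : A →ₐc[k] k[T;T⁻¹]) (Y Yi : Matrix (Fin N) (Fin N) k) (hY : Y * Yi = 1)
    (r : Fin N → ℤ)
    (hmat : mat ((lam : A →ₐ[k] k[T;T⁻¹]).comp (π : GLn N k →ₐ[k] A)) =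
      Y.map LaurentPolynomial.C * Matrix.diagonal (fun i => LaurentPolynomial.T (r i)) * Yi.map LaurentPolynomial.C)
    (hset : ∀ (B : Type u) [CommRing B] [Algebra k B] (g : A →ₐ[k] B),
        (∀ i, Matrix.vecMul (fun j => algebraMap k B (u j)) (mat (g.comp (π : GLn N k →ₐ[k] A))) (p i) =
          g (GLin.orbitHom k A (GLin.vecPt k ι v) (MvPolynomial.X i))) ∧
        ∀ j, (∀ i, p i ≠ j) → Matrix.vecMul (fun j => algebraMap k B (u j)) (mat (g.comp (π : GLn N k →ₐ[k] A))) j = 0)
    (m : ℤ) (hm : ∀ j, Matrix.vecMul u Y j ≠ 0 → 0 ≤ r j + m)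
    (hm0 : ∃ j, Matrix.vecMul u Y j ≠ 0 ∧ r j + m = 0) : GLin.IsMu k A lam v m := by
  classical
  obtain ⟨h1, h2⟩ := hset _ (lam : A →ₐ[k] k[T;T⁻¹])
  let w := Matrix.vecMul u Y
  have hval : ∀ j', Matrix.vecMul (fun j => algebraMap k k[T;T⁻¹] (u j))
      (mat ((lam : A →ₐ[k] k[T;T⁻¹]).comp (π : GLn N k →ₐ[k] A))) j' =
      ∑ j, LaurentPolynomial.C (w j * Yi j j') * LaurentPolynomial.T (r j) := by
    intro j'
    rw [hmat, ← Matrix.vecMul_vecMul, ← Matrix.vecMul_vecMul]
    simp only [Matrix.vecMul, dotProduct, Matrix.map_apply, Matrix.diagonal_apply, mul_ite, mul_zero,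
      Finset.sum_ite_eq', Finset.mem_univ, if_true]
    refine Finset.sum_congr rfl fun j _ => ?_
    rw [map_mul, mul_right_comm]
    simp only [w, Matrix.vecMul, dotProduct, map_sum, map_mul]
    rfl
  let h : MvPolynomial ι k →ₐ[k] Polynomial k :=
    MvPolynomial.aeval fun i => ∑ j, Polynomial.C (w j * Yi j (p i)) * Polynomial.X ^ (r j + m).toNat
  refine ⟨h, MvPolynomial.algHom_ext fun i => ?_, fun h0 => ?_⟩
  · simp only [AlgHom.comp_apply, h, MvPolynomial.aeval_X, GLin.shiftedOrbit, GLin.lamOrbit]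
    rw [← h1, hval, map_sum, Finset.mul_sum]
    refine Finset.sum_congr rfl fun j _ => ?_
    rw [Polynomial.toLaurentAlg_apply, Polynomial.toLaurent_C_mul_X_pow]
    by_cases hw : w j = 0
    · simp [hw]
    · rw [Int.toNat_of_nonneg (hm j hw), LaurentPolynomial.T_add]
      ring
  · let w0 : Fin N → k := fun j => if r j + m = 0 then w j else 0
    have hc : Matrix.vecMul w0 Yi = 0 := by
      funext j'
      by_cases hj : ∃ i, p i = j'
      · obtain ⟨i, rfl⟩ := hj
        have e1 := AlgHom.congr_fun h0 (MvPolynomial.X i)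
        simp only [AlgHom.comp_apply, h, MvPolynomial.aeval_X, map_sum] at e1
        refine Eq.trans ?_ e1
        simp only [Matrix.vecMul, dotProduct]
        refine Finset.sum_congr rfl fun j _ => ?_
        rw [map_mul, map_pow, Polynomial.aeval_C, Polynomial.aeval_X]
        simp only [w0]
        split_ifs with hj0
        · simp [hj0]
        · by_cases hw : w j = 0
          · simp [hw]
          · have hne : (r j + m).toNat ≠ 0 := by have := hm j hw; omega
            simp [zero_pow hne]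
      · push Not at hj
        have e1 := congrArg (fun q : k[T;T⁻¹] => q.coeff (-m)) ((hval j').symm.trans (h2 j' hj))
        simp only [AddMonoidAlgebra.coeff_sum, Finset.sum_apply', AddMonoidAlgebra.coeff_zero, Finsupp.zero_apply,
          ← LaurentPolynomial.single_eq_C_mul_T, AddMonoidAlgebra.coeff_single, Finsupp.single_apply] at e1
        refine Eq.trans ?_ e1
        simp only [Matrix.vecMul, dotProduct, w0, ite_mul, zero_mul, eq_neg_iff_add_eq_zero]
    obtain ⟨j, hj, hj0⟩ := hm0
    apply hj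
    have : w0 = 0 := by
      have := congrArg (fun z => Matrix.vecMul z Y) hc
      simpa [Matrix.vecMul_vecMul, mul_eq_one_comm.1 hY] using this
    have := congrFun this j
    simpa [w0, hj0] using this

variable [IsAlgClosed k] [CharZero k] [Algebra.FiniteType k A]

/-- A destabilising one-parameter subgroup. -/
theorem exists_mu (hπ : Function.Surjective π) (hG : HopfRep.IsLinearlyReductive k A)
    (hset : ∀ (B : Type u) [CommRing B] [Algebra k B] (g : A →ₐ[k] B),
        (∀ i, Matrix.vecMul (fun j => algebraMap k B (u j)) (mat (g.comp (π : GLn N k →ₐ[k] A))) (p i) =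
          g (GLin.orbitHom k A (GLin.vecPt k ι v) (MvPolynomial.X i))) ∧
        ∀ j, (∀ i, p i ≠ j) → Matrix.vecMul (fun j => algebraMap k B (u j)) (mat (g.comp (π : GLn N k →ₐ[k] A))) j = 0)
    (hv : v ≠ 0) (r : Fin N → ℤ) (a : GLn N k →ₐ[k] k) (ha : Nonneg π r a) (P : Fin N → Prop)
    (hP : ∀ i j, r i < r j → P j → P i) (hPv : ∀ j, P j → Matrix.vecMul u (mat a) j = 0) :
    ∃ (lam : A →ₐc[k] k[T;T⁻¹]) (m : ℤ), GLin.IsMu k A lam v m ∧ (∃ j, r j = -m ∧ ¬ P j) ∧
      (SGA3t2b.IsTrivialBialgHom lam → r = 0) := by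
  classical
  obtain ⟨α, hα, h1⟩ := exists_integral hG
  obtain ⟨lam, Y, Yi, hY, hw, hmat⟩ := exists_oneParam hπ hα h1 r a ha u P hP hPv
  have hu : u ≠ 0 := fun hu => hv (funext fun i => by
    have := (hset k (Bialgebra.counitAlgHom k A)).1 i
    rw [show (Bialgebra.counitAlgHom k A) (GLin.orbitHom k A (GLin.vecPt k ι v) (MvPolynomial.X i)) = v i from
      (GrothLib.AffQuot.counit_orbitHom _ _).trans (by simp)] at this
    rw [← this, hu]
    simp [Matrix.vecMul, dotProduct])
  let S := Finset.univ.filter fun j => Matrix.vecMul u Y j ≠ 0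
  have hS : S.Nonempty := by
    obtain ⟨j, hj⟩ := Function.ne_iff.1 (show Matrix.vecMul u Y ≠ 0 from fun h0 => hu (by
      have := congrArg (fun z => Matrix.vecMul z Yi) h0
      simpa [Matrix.vecMul_vecMul, hY] using this))
    exact ⟨j, by simpa [S] using hj⟩
  obtain ⟨j0, hj0, hmin⟩ := S.exists_min_image r hS
  have hj0' : Matrix.vecMul u Y j0 ≠ 0 := (Finset.mem_filter.1 hj0).2
  refine ⟨lam, -r j0, isMu_of_weights lam Y Yi hY r hmat hset _ (fun j hj => ?_) ⟨j0, hj0', by simp⟩,
    ⟨j0, by simp, fun h => hj0' (hw j0 h)⟩, fun htriv => ?_⟩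
  · have := hmin j (by simpa [S] using hj)
    omega
  · have h1' : mat ((lam : A →ₐ[k] k[T;T⁻¹]).comp (π : GLn N k →ₐ[k] A)) = 1 := by
      ext i j : 1
      change lam (π (GLn.X i j)) = _
      rw [htriv, CoalgHomClass.counit_comp_apply, GLn.counit_X, Matrix.one_apply]
      split_ifs <;> simp
    have hD : Matrix.diagonal (fun i => (LaurentPolynomial.T (r i) : k[T;T⁻¹])) = 1 := by
      have e1 : Yi.map (LaurentPolynomial.C : k →+* k[T;T⁻¹]) * Y.map LaurentPolynomial.C = 1 := by
        rw [← Matrix.map_mul, mul_eq_one_comm.1 hY, Matrix.map_one _ (map_zero _) (map_one _)]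
      have e2 := congrArg (fun M => Yi.map (LaurentPolynomial.C : k →+* k[T;T⁻¹]) * M * Y.map LaurentPolynomial.C)
        (hmat.symm.trans h1')
      simp only [mul_assoc, e1, mul_one] at e2
      rwa [← mul_assoc, e1, one_mul] at e2
    funext i
    have e3 := congrArg (fun M : Matrix (Fin N) (Fin N) k[T;T⁻¹] => (M i i).coeff (r i)) hD
    simp only [Matrix.diagonal_apply_eq, Matrix.one_apply_eq] at e3
    by_contra hr
    rw [show (LaurentPolynomial.T (r i) : k[T;T⁻¹]) = AddMonoidAlgebra.single (r i) 1 from rfl,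
      AddMonoidAlgebra.coeff_single, Finsupp.single_eq_same,
      show (1 : k[T;T⁻¹]) = AddMonoidAlgebra.single (0 : ℤ) 1 from rfl,
      AddMonoidAlgebra.coeff_single, Finsupp.single_eq_of_ne (show r i ≠ 0 from hr)] at e3
    exact one_ne_zero e3

end GrothLib.HMG
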